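import Groth.Agent.S16480
import Groth.Agent.DiagRepLib.Coords
import Groth.Prelude
import Mathlib.RingTheory.HopfAlgebra.GroupLike
import Mathlib.RingTheory.HopfAlgebra.MonoidAlgebra
import Mathlib.LinearAlgebra.TensorProduct.Basis
import Mathlib.FieldTheory.IsAlgClosed.Basic

/-!
# The determinant characters of a central multiplicative group
-/

set_option autoImplicit false
set_option linter.style.haveILetI false

universe u

open Matrix WithConv
open scoped TensorProduct

noncomputable section

namespace CentralTorusLib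

variable {k : Type u} [Field k]

local notation "C" => MonoidAlgebra k (Multiplicative ℤ)

/-- The determinant of an idempotent interpolation is a monomial. -/
theorem exists_det_eq_pow [IsAlgClosed k] {n : ℕ} (P : Matrix (Fin n) (Fin n) k) (hP : P * P = P) (h0 : P ≠ 0) :
    ∃ r : ℕ, 1 ≤ r ∧ ∀ (R : Type u) [CommRing R] [Algebra k R] (t : R),
      (1 - (algebraMap k R).mapMatrix P + t • (algebraMap k R).mapMatrix P).det = t ^ r := by
  classical
  let h : Polynomial k := (1 - (algebraMap k (Polynomial k)).mapMatrix P +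
    (Polynomial.X : Polynomial k) • (algebraMap k (Polynomial k)).mapMatrix P).det
  have hev : ∀ (R : Type u) [CommRing R] [Algebra k R] (t : R), Polynomial.aeval t h =
      (1 - (algebraMap k R).mapMatrix P + t • (algebraMap k R).mapMatrix P).det := by
    intro R _ _ t
    simp only [h, AlgHom.map_det, map_add, map_sub, map_one]
    congr 1
    ext i j
    simp [Matrix.smul_apply, Matrix.map_apply, Matrix.one_apply, apply_ite (Polynomial.aeval t)]
    exact mul_comm _ _
  have hk : ∀ t : k, Polynomial.aeval t h = (1 - P + t • P).det := fun t => by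
    rw [hev]; simp [Algebra.algebraMap_self, RingHom.mapMatrix_apply]
  have hmul : ∀ s t : k, Polynomial.aeval s h * Polynomial.aeval t h = Polynomial.aeval (s * t) h := by
    intro s t
    rw [hk, hk, hk, ← det_mul]
    congr 1
    simp only [add_mul, mul_add, sub_mul, mul_sub, one_mul, mul_one, smul_mul_assoc, mul_smul_comm, hP]
    module
  have h1 : Polynomial.aeval (1 : k) h = 1 := by simp [hk]
  have h00 : Polynomial.aeval (0 : k) h = 0 := by
    rw [hk, zero_smul, add_zero]
    by_contra hd
    have hu : IsUnit (1 - P) := (Matrix.isUnit_iff_isUnit_det _).2 (Ne.isUnit hd)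
    apply h0
    refine hu.mul_left_cancel ?_
    rw [sub_mul, one_mul, hP, sub_self, mul_zero]
  have hne : h ≠ 0 := fun e => by rw [e] at h1; simp at h1
  have hroots : h.roots = Multiset.replicate h.roots.card 0 := by
    refine Multiset.eq_replicate.2 ⟨rfl, fun s hs => ?_⟩
    by_contra hs0
    rw [Polynomial.mem_roots hne, Polynomial.IsRoot, ← Polynomial.coe_aeval_eq_eval] at hs
    have := hmul s s⁻¹
    rw [hs, zero_mul, mul_inv_cancel₀ hs0, h1] at this
    exact zero_ne_one this
  have hs : h.Splits := IsAlgClosed.splits h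
  have heq : h = Polynomial.C h.leadingCoeff * Polynomial.X ^ h.roots.card := by
    conv_lhs => rw [hs.eq_prod_roots, hroots]
    simp
  have hlc : h.leadingCoeff = 1 := by
    have := congrArg (Polynomial.aeval (1 : k)) heq
    rw [h1] at this
    simpa using this.symm
  rw [hlc, map_one, one_mul] at heq
  refine ⟨h.roots.card, ?_, fun R _ _ t => by rw [← hev, heq]; simp⟩
  by_contra hc
  rw [not_le, Nat.lt_one_iff] at hc
  rw [heq, hc] at h00
  simp at h00

/-- The coefficient of a character. -/
def coef (a : Multiplicative ℤ) : C →ₗ[k] k :=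
  Finsupp.lapply a ∘ₗ (MonoidAlgebra.basis (Multiplicative ℤ) k).repr.toLinearMap

theorem repr_single (b : Multiplicative ℤ) (x : k) :
    (MonoidAlgebra.basis (Multiplicative ℤ) k).repr (MonoidAlgebra.single b x) = Finsupp.single b x := by
  rw [show (MonoidAlgebra.single b x : C) = x • (MonoidAlgebra.basis (Multiplicative ℤ) k) b by simp,
    map_smul, Module.Basis.repr_self, Finsupp.smul_single, smul_eq_mul, mul_one]

theorem coef_of (a b : Multiplicative ℤ) : coef a (MonoidAlgebra.of k _ b) = if b = a then 1 else 0 := by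
  classical
  simp [coef, MonoidAlgebra.of_apply, repr_single, Finsupp.single_apply]

theorem coef_ext {x y : C} (h : ∀ a, coef a x = coef a y) : x = y :=
  (MonoidAlgebra.basis (Multiplicative ℤ) k).ext_elem h

/-- A central subgroup `𝔾ₘ` has a character of nonzero weight. -/
theorem exists_char [IsAlgClosed k] (B : Type u) [CommRing B] [HopfAlgebra k B] [Algebra.FiniteType k B]
    (φ : B →ₐ[k] C) (hφ : Function.Surjective φ)
    (hcomul : ∀ x, CoalgebraStruct.comul (R := k) (φ x) = Algebra.TensorProduct.map φ φ (CoalgebraStruct.comul (R := k) x))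
    (hcounit : ∀ x, CoalgebraStruct.counit (R := k) (φ x) = CoalgebraStruct.counit (R := k) x)
    (hc : toConv ((Algebra.TensorProduct.includeRight : C →ₐ[k] B ⊗[k] C).comp φ) *
        toConv (Algebra.TensorProduct.includeLeft : B →ₐ[k] B ⊗[k] C) =
      toConv (Algebra.TensorProduct.includeLeft : B →ₐ[k] B ⊗[k] C) *
        toConv ((Algebra.TensorProduct.includeRight : C →ₐ[k] B ⊗[k] C).comp φ)) :
    ∃ (g : B) (n : ℕ), 1 ≤ n ∧ IsGroupLikeElem k g ∧
      φ g = MonoidAlgebra.of k _ (Multiplicative.ofAdd (n : ℤ)) := by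
  classical
  obtain ⟨m, π, hπ⟩ := Groth.Agent.S16480.result k B
  let G := Groth.Agent.DiagRep.glnCoords k m
  let π' : CoordGrp.GLn m k →ₐ[k] B := π
  let X : Matrix (Fin m) (Fin m) B := π'.mapMatrix G.X
  let Y : Matrix (Fin m) (Fin m) C := φ.mapMatrix X
  have hπc : (Algebra.TensorProduct.map π' π').comp (Bialgebra.comulAlgHom k _) = (Bialgebra.comulAlgHom k B).comp π' :=
    π.map_comp_comulAlgHom
  have hX : (Bialgebra.comulAlgHom k B).mapMatrix X =
      (Algebra.TensorProduct.includeLeft : B →ₐ[k] B ⊗[k] B).mapMatrix X *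
        (Algebra.TensorProduct.includeRight : B →ₐ[k] B ⊗[k] B).mapMatrix X := by
    simp only [X]
    rw [← Groth.Agent.DiagRep.mapMatrix_comp, ← hπc, Groth.Agent.DiagRep.mapMatrix_comp, G.comul, map_mul]
    congr 1 <;> ext i j <;> simp
  have hX1 : (Bialgebra.counitAlgHom k B).mapMatrix X = 1 := by
    simp only [X]
    rw [← Groth.Agent.DiagRep.mapMatrix_comp,
      show (Bialgebra.counitAlgHom k B).comp π' = Bialgebra.counitAlgHom k _ from π.counitAlgHom_comp, G.counit]
  have hY : (Bialgebra.comulAlgHom k C).mapMatrix Y =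
      (Algebra.TensorProduct.includeLeft : C →ₐ[k] C ⊗[k] C).mapMatrix Y *
        (Algebra.TensorProduct.includeRight : C →ₐ[k] C ⊗[k] C).mapMatrix Y := by
    have h : (Bialgebra.comulAlgHom k C).comp φ = (Algebra.TensorProduct.map φ φ).comp (Bialgebra.comulAlgHom k B) :=
      AlgHom.ext hcomul
    simp only [Y]
    rw [← Groth.Agent.DiagRep.mapMatrix_comp, h, Groth.Agent.DiagRep.mapMatrix_comp, hX, map_mul]
    congr 1 <;> ext i j <;> simp
  -- the commutation
  have hcomm : (Algebra.TensorProduct.includeRight : C →ₐ[k] B ⊗[k] C).mapMatrix Y *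
      (Algebra.TensorProduct.includeLeft : B →ₐ[k] B ⊗[k] C).mapMatrix X =
      (Algebra.TensorProduct.includeLeft : B →ₐ[k] B ⊗[k] C).mapMatrix X *
        (Algebra.TensorProduct.includeRight : C →ₐ[k] B ⊗[k] C).mapMatrix Y := by
    have e : ∀ f g : WithConv (B →ₐ[k] B ⊗[k] C), (f * g).ofConv.mapMatrix X = f.ofConv.mapMatrix X * g.ofConv.mapMatrix X := by
      intro f g
      let L : B ⊗[k] B →ₐ[k] B ⊗[k] C := Algebra.TensorProduct.lift f.ofConv g.ofConv fun _ _ => Commute.all _ _
      have e : (f * g).ofConv = L.comp (Bialgebra.comulAlgHom k B) := by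
        apply AlgHom.ext; intro x
        exact AlgHom.convMul_apply _ _ _
      rw [e, Groth.Agent.DiagRep.mapMatrix_comp, hX, map_mul]
      congr 1 <;> ext i j <;> simp [L]
    have h := congrArg (fun F : WithConv (B →ₐ[k] B ⊗[k] C) => F.ofConv.mapMatrix X) hc
    simp only [e] at h
    exact h
  -- the weight projections
  let P : Multiplicative ℤ → Matrix (Fin m) (Fin m) k := fun a => Matrix.of fun i j => coef a (Y i j)
  let E := MonoidAlgebra.basis (Multiplicative ℤ) k
  have hPP : ∀ a b, P a * P b = if a = b then P a else 0 := by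
    intro a b
    have hdiag : ∀ x : C, (E.tensorProduct E).repr (CoalgebraStruct.comul (R := k) x) (a, b) =
        if a = b then coef a x else 0 := by
      have : (Finsupp.lapply (a, b) ∘ₗ (E.tensorProduct E).repr.toLinearMap) ∘ₗ
          (CoalgebraStruct.comul (R := k) : C →ₗ[k] C ⊗[k] C) = (if a = b then coef a else 0) := by
        refine E.ext fun c => ?_
        simp only [E, MonoidAlgebra.basis_apply, LinearMap.comp_apply]
        rw [← MonoidAlgebra.of_apply, show CoalgebraStruct.comul (R := k) (MonoidAlgebra.of k _ c) =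
          MonoidAlgebra.of k _ c ⊗ₜ[k] MonoidAlgebra.of k _ c from by simp [MonoidAlgebra.of_apply]]
        split_ifs with hab
        · subst hab
          simp [coef, repr_single, MonoidAlgebra.of_apply, Module.Basis.tensorProduct_repr_tmul_apply, Finsupp.single_apply]
        · simp only [LinearMap.zero_apply]
          simp [MonoidAlgebra.of_apply, repr_single, Module.Basis.tensorProduct_repr_tmul_apply, Finsupp.single_apply]
          exact fun h1 h2 => hab (h1.symm.trans h2)
      intro x
      have h := DFunLike.congr_fun this x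
      split_ifs with hab <;> simpa [hab] using h
    ext i j
    have h := congrArg (fun M : Matrix (Fin m) (Fin m) (C ⊗[k] C) => (E.tensorProduct E).repr (M i j) (a, b)) hY
    simp only [AlgHom.mapMatrix_apply, Matrix.map_apply, Bialgebra.comulAlgHom_apply, Matrix.mul_apply, hdiag,
      Algebra.TensorProduct.includeLeft_apply, Algebra.TensorProduct.includeRight_apply,
      Algebra.TensorProduct.tmul_mul_tmul, mul_one, one_mul, map_sum, Finsupp.coe_finsetSum, Finset.sum_apply,
      Module.Basis.tensorProduct_repr_tmul_apply] at h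
    rw [Matrix.mul_apply]
    rw [apply_ite (fun M : Matrix (Fin m) (Fin m) k => M i j)]
    simp only [Matrix.zero_apply, P, Matrix.of_apply]
    rw [h]
    refine Finset.sum_congr rfl fun l _ => ?_
    simp [coef, E, mul_comm]
  have hXP : ∀ a, (algebraMap k B).mapMatrix (P a) * X = X * (algebraMap k B).mapMatrix (P a) := by
    intro a
    ext i j
    have h := congrArg (fun M : Matrix (Fin m) (Fin m) (B ⊗[k] C) => TensorProduct.equivFinsuppOfBasisRight E (M i j) a) hcomm
    simp only [AlgHom.mapMatrix_apply, Matrix.map_apply, Matrix.mul_apply,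
      Algebra.TensorProduct.includeLeft_apply, Algebra.TensorProduct.includeRight_apply,
      Algebra.TensorProduct.tmul_mul_tmul, mul_one, one_mul, map_sum, Finsupp.coe_finsetSum, Finset.sum_apply,
      TensorProduct.equivFinsuppOfBasisRight_apply_tmul_apply] at h
    simp only [RingHom.mapMatrix_apply, Matrix.mul_apply, Matrix.map_apply, P, Matrix.of_apply, coef,
      LinearMap.comp_apply, Finsupp.lapply_apply, LinearEquiv.coe_toLinearMap]
    simpa [E, Algebra.smul_def, mul_comm] using h
  -- some nonzero weight occurs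
  obtain ⟨a, ha, hPa⟩ : ∃ a, a ≠ 1 ∧ P a ≠ 0 := by
    by_contra hcon
    push Not at hcon
    have hY1 : Y = (algebraMap k C).mapMatrix (P 1) := by
      ext i j : 1
      refine coef_ext fun b => ?_
      rw [RingHom.mapMatrix_apply, Matrix.map_apply, MonoidAlgebra.coe_algebraMap]
      by_cases hb : b = 1
      · subst hb; simp [coef, P, repr_single]
      · have := congrFun (congrFun (hcon b hb) i) j
        simp only [P, Matrix.of_apply, Matrix.zero_apply] at this
        rw [this]
        simp [coef, repr_single, Finsupp.single_apply, Ne.symm hb]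
    have hP1 : P 1 = 1 := by
      have h := congrArg (Bialgebra.counitAlgHom k C).mapMatrix hY1
      simp only [Y] at h
      rw [← Groth.Agent.DiagRep.mapMatrix_comp,
        show (Bialgebra.counitAlgHom k C).comp φ = Bialgebra.counitAlgHom k B from AlgHom.ext hcounit, hX1] at h
      rw [h]
      ext i j
      simp
    rw [hP1, map_one] at hY1
    have hfac : φ.comp π' = (Algebra.ofId k C).comp (Bialgebra.counitAlgHom k (CoordGrp.GLn m k)) := by
      refine G.ext _ _ ?_
      rw [Groth.Agent.DiagRep.mapMatrix_comp, Groth.Agent.DiagRep.mapMatrix_comp, G.counit, map_one]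
      exact hY1
    obtain ⟨x, hx⟩ := hφ (MonoidAlgebra.of k _ (Multiplicative.ofAdd (1 : ℤ)))
    obtain ⟨y, rfl⟩ := hπ x
    have h := DFunLike.congr_fun hfac y
    have hne : Multiplicative.ofAdd (1 : ℤ) ≠ 1 := by decide
    have h2 := congrArg (coef (Multiplicative.ofAdd (1 : ℤ))) (hx.symm.trans h)
    simp [coef, Algebra.ofId_apply, MonoidAlgebra.of_apply, MonoidAlgebra.coe_algebraMap, repr_single, Finsupp.single_apply, hne, hne.symm] at h2
  have hP : P a * P a = P a := by simp [hPP]
  let Q : Matrix (Fin m) (Fin m) B := (algebraMap k B).mapMatrix (P a)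
  have hQ : Q * Q = Q := by simp only [Q, ← map_mul, hP]
  let M : Matrix (Fin m) (Fin m) B := 1 - Q + Q * X
  let g : B := M.det
  have hg : IsGroupLikeElem k g := by
    have hl : ∀ (f : B →ₐ[k] B ⊗[k] B), f.mapMatrix Q = (algebraMap k (B ⊗[k] B)).mapMatrix (P a) := by
      intro f; ext i j; simp [Q]
    refine ⟨?_, ?_⟩
    · show Bialgebra.counitAlgHom k B g = 1
      rw [AlgHom.map_det]
      simp only [M, map_add, map_sub, map_one, map_mul, hX1, mul_one, sub_add_cancel, det_one]
    · show Bialgebra.comulAlgHom k B g = g ⊗ₜ[k] g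
      rw [show g ⊗ₜ[k] g = (Algebra.TensorProduct.includeLeft : B →ₐ[k] B ⊗[k] B) g *
        (Algebra.TensorProduct.includeRight : B →ₐ[k] B ⊗[k] B) g by simp]
      simp only [g, AlgHom.map_det, ← det_mul]
      congr 1
      simp only [M, map_add, map_sub, map_one, map_mul, hX, hl]
      have hcl : ∀ f : B →ₐ[k] B ⊗[k] B, (algebraMap k (B ⊗[k] B)).mapMatrix (P a) * f.mapMatrix X =
          f.mapMatrix X * (algebraMap k (B ⊗[k] B)).mapMatrix (P a) := by
        intro f; rw [← hl f, ← map_mul, ← map_mul, hXP]
      have hqq : (algebraMap k (B ⊗[k] B)).mapMatrix (P a) * (algebraMap k (B ⊗[k] B)).mapMatrix (P a) =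
          (algebraMap k (B ⊗[k] B)).mapMatrix (P a) := by rw [← map_mul, hP]
      generalize (algebraMap k (B ⊗[k] B)).mapMatrix (P a) = q at hcl hqq ⊢
      have h1 := hcl (Algebra.TensorProduct.includeLeft : B →ₐ[k] B ⊗[k] B)
      generalize (Algebra.TensorProduct.includeLeft : B →ₐ[k] B ⊗[k] B).mapMatrix X = x at h1 ⊢
      generalize (Algebra.TensorProduct.includeRight : B →ₐ[k] B ⊗[k] B).mapMatrix X = y
      have h2 : q * x * q = q * x := by rw [mul_assoc, ← h1, ← mul_assoc, hqq]
      rw [show (1 - q + q * x) * (1 - q + q * y) =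
        1 - q - q + q * q + q * y - q * q * y + q * x - q * x * q + q * x * q * y by noncomm_ring, hqq, h2, mul_assoc q x y]
      abel
  obtain ⟨r, hr1, hr⟩ := exists_det_eq_pow (P a) hP hPa
  have hgv : φ g = MonoidAlgebra.of k _ (a ^ r) := by
    rw [map_pow, ← hr C (MonoidAlgebra.of k _ a), AlgHom.map_det]
    congr 1
    have e : φ.mapMatrix Q = (algebraMap k C).mapMatrix (P a) := by ext i j; simp [Q]
    simp only [M, map_add, map_sub, map_one, map_mul, e]
    congr 1
    show (algebraMap k C).mapMatrix (P a) * Y = _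
    ext i j : 1
    refine coef_ext fun b => ?_
    simp only [Matrix.mul_apply, RingHom.mapMatrix_apply, Matrix.map_apply, map_sum, Matrix.smul_apply, smul_eq_mul,
      ← Algebra.smul_def, map_smul, mul_comm (MonoidAlgebra.of k _ a), coef_of]
    have h := congrFun (congrFun (hPP a b) i) j
    simp only [Matrix.mul_apply] at h
    rw [show (∑ x, P a i x * coef b (Y x j)) = (if a = b then P a else 0) i j from h]
    by_cases hab : a = b <;> simp [hab]
  let z : ℤ := Multiplicative.toAdd a * r
  have hz : a ^ r = Multiplicative.ofAdd z := by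
    apply Multiplicative.toAdd.injective
    simp [z, mul_comm]
  have hz0 : z ≠ 0 := mul_ne_zero (fun e => ha (by rw [← ofAdd_toAdd a, e]; rfl)) (by omega)
  rcases Int.natAbs_eq z with e | e
  · exact ⟨g, z.natAbs, by omega, hg, by rw [hgv, hz, ← e]⟩
  · refine ⟨HopfAlgebraStruct.antipode k g, z.natAbs, by omega, hg.antipode, ?_⟩
    have h := congrArg φ hg.antipode_mul_cancel
    rw [map_mul, map_one, hgv, hz] at h
    refine left_inv_eq_right_inv h ?_
    rw [← map_mul, ← ofAdd_add]
    conv_lhs => rw [show z + (z.natAbs : ℤ) = 0 by omega]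
    exact map_one _

end CentralTorusLib
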