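import Groth.Agent.CentralTorusLib.DetChar
import Groth.Agent.TorusFieldLib.Scheme
import Groth.Agent.DiagRepLib.Main
import Groth.Agent.OrbitLib.ToAffineMain
import Groth.Prelude

/-!
# Characters of central extensions by the multiplicative group
-/

set_option autoImplicit false
set_option linter.style.haveILetI false
set_option backward.isDefEq.respectTransparency false

universe u

open CategoryTheory MonoidalCategory CartesianMonoidalCategory AlgebraicGeometry WithConv CoactBr
open scoped MonObj TensorProduct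

noncomputable section

namespace CentralTorusLib

variable {k : Type u} [Field k]

local notation "C" => MonoidAlgebra k (Multiplicative ℤ)

/-- Powers of the identity of the multiplicative group. -/
theorem exists_pow_eq (n : ℕ) : ∃ f : C →ₐ[k] C, pt f = (𝟙 (sp k C)) ^ n ∧
    f (MonoidAlgebra.of k _ (Multiplicative.ofAdd (1 : ℤ))) = MonoidAlgebra.of k _ (Multiplicative.ofAdd (n : ℤ)) := by
  induction n with
  | zero =>
    refine ⟨(Algebra.ofId k C).comp (Bialgebra.counitAlgHom k C), by rw [pow_zero]; exact Groth.Agent.DiagRep.pt_one, ?_⟩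
    simp only [Nat.cast_zero, ofAdd_zero, map_one]
    simp [MonoidAlgebra.of_apply, MonoidAlgebra.one_def]
  | succ n ih =>
    obtain ⟨f, hf, hf1⟩ := ih
    refine ⟨(toConv f * toConv (AlgHom.id k C)).ofConv, ?_, ?_⟩
    · rw [pow_succ, ← hf, ← Groth.Agent.DiagRep.pt_mul_conv, pt_id]
    · show (toConv f * toConv (AlgHom.id k C)) (MonoidAlgebra.of k _ (Multiplicative.ofAdd (1 : ℤ))) = _
      rw [AlgHom.convMul_apply, show CoalgebraStruct.comul (R := k) (MonoidAlgebra.of k _ (Multiplicative.ofAdd (1 : ℤ))) =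
        MonoidAlgebra.of k _ (Multiplicative.ofAdd (1 : ℤ)) ⊗ₜ[k] MonoidAlgebra.of k _ (Multiplicative.ofAdd (1 : ℤ))
        from by simp [MonoidAlgebra.of_apply]]
      simp only [Algebra.TensorProduct.lift_tmul, ofConv_toConv, hf1, AlgHom.id_apply, ← map_mul, ← ofAdd_add,
        Nat.cast_succ]

/-- A central multiplicative subgroup of an affine algebraic group has a character of positive weight. -/
theorem exists_character [IsAlgClosed k] {E : Over (Spec (CommRingCat.of k))} [GrpObj E] [IsAffine E.left]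
    [LocallyOfFiniteType E.hom] (i : Red.Gm (Spec (CommRingCat.of k)) ⟶ E) [IsMonHom i] [IsClosedImmersion i.left]
    (hcent : ∀ (T : Over (Spec (CommRingCat.of k))) (t : T ⟶ Red.Gm (Spec (CommRingCat.of k))) (g : T ⟶ E),
      (t ≫ i) * g = g * (t ≫ i)) :
    ∃ (χ : E ⟶ Red.Gm (Spec (CommRingCat.of k))) (n : ℕ), IsMonHom χ ∧ 1 ≤ n ∧
      ∀ (T : Over (Spec (CommRingCat.of k))) (t : T ⟶ Red.Gm (Spec (CommRingCat.of k))), (t ≫ i) ≫ χ = t ^ n := by
  classical
  obtain ⟨w, hw, hw'⟩ := Groth.Agent.TorusField.exists_DS_iso k ℤ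
  obtain ⟨B, _, _, v, hv, hv'⟩ := OrbitLib.ToAffine.exists_sp E
  haveI : Algebra.FiniteType k B := by
    haveI : IsIso v.hom.left := (Over.forget _).map_isIso v.hom
    have hB : LocallyOfFiniteType (sp k B).hom := by
      rw [← Over.w v.hom]; infer_instance
    exact RingHom.finiteType_algebraMap.mp
      ((HasRingHomProperty.Spec_iff (P := @LocallyOfFiniteType)).mp hB)
  obtain ⟨φ, hφ⟩ := Groth.Agent.DiagRep.exists_pt (w.hom ≫ i ≫ v.inv)
  haveI : IsMonHom (pt φ) := hφ ▸ inferInstance
  have hsurj : Function.Surjective φ := by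
    refine Groth.Agent.DiagRep.surjective_of_isClosedImmersion φ ?_
    haveI : IsIso w.hom.left := (Over.forget _).map_isIso w.hom
    haveI : IsIso v.inv.left := (Over.forget _).map_isIso v.inv
    rw [← hφ, Over.comp_left, Over.comp_left]
    infer_instance
  have hcomul : ∀ x, CoalgebraStruct.comul (R := k) (φ x) =
      Algebra.TensorProduct.map φ φ (CoalgebraStruct.comul (R := k) x) := by
    intro x
    have h := DFunLike.congr_fun (congrArg WithConv.ofConv (Groth.Agent.DiagRep.comul_comp_of_isMonHom φ)) x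
    simp only [ofConv_toConv, AlgHom.comp_apply, Bialgebra.comulAlgHom_apply] at h
    rw [h]
    show (toConv ((Algebra.TensorProduct.includeLeft : C →ₐ[k] C ⊗[k] C).comp φ) *
      toConv ((Algebra.TensorProduct.includeRight : C →ₐ[k] C ⊗[k] C).comp φ)) x = _
    rw [AlgHom.convMul_apply]
    generalize CoalgebraStruct.comul (R := k) x = z
    induction z using TensorProduct.induction_on with
    | zero => simp
    | add p q hp hq => simp only [map_add, hp, hq]
    | tmul p q => simp
  have hc : toConv ((Algebra.TensorProduct.includeRight : C →ₐ[k] B ⊗[k] C).comp φ) *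
        toConv (Algebra.TensorProduct.includeLeft : B →ₐ[k] B ⊗[k] C) =
      toConv (Algebra.TensorProduct.includeLeft : B →ₐ[k] B ⊗[k] C) *
        toConv ((Algebra.TensorProduct.includeRight : C →ₐ[k] B ⊗[k] C).comp φ) := by
    have h := hcent (sp k (B ⊗[k] C)) (pt (Algebra.TensorProduct.includeRight : C →ₐ[k] B ⊗[k] C) ≫ w.hom)
      (pt (Algebra.TensorProduct.includeLeft : B →ₐ[k] B ⊗[k] C) ≫ v.hom)
    have h' := congrArg (· ≫ v.inv) h
    simp only [MonObj.mul_comp, Category.assoc, Iso.hom_inv_id, Category.comp_id, hφ, ← pt_comp,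
      Groth.Agent.DiagRep.pt_mul_conv] at h'
    exact WithConv.ext (pt_injective h')
  obtain ⟨g, n, hn, hg, hgn⟩ := exists_char B φ hsurj hcomul
    (fun x => DFunLike.congr_fun (Groth.Agent.DiagRep.counit_comp_of_isMonHom φ) x) hc
  let ev : GroupLike k B →* B := { toFun := fun a => a, map_one' := rfl, map_mul' := fun _ _ => rfl }
  let ψ : C →ₐ[k] B := MonoidAlgebra.lift k B (Multiplicative ℤ) (ev.comp (zpowersHom (GroupLike k B) ⟨g, hg⟩))
  have hψ : ∀ a, ψ (MonoidAlgebra.of k _ a) = ev (zpowersHom (GroupLike k B) ⟨g, hg⟩ a) := fun a => by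
    simp [ψ, MonoidAlgebra.of_apply]
  haveI : IsMonHom (pt ψ) := by
    refine Groth.Agent.DiagRep.isMonHom_pt ψ ?_ ?_
    · refine MonoidAlgebra.algHom_ext' (R := k) (MonoidHom.ext fun a => ?_) (Subsingleton.elim _ _)
      simp only [MonoidHom.comp_apply, MonoidHom.coe_coe, AlgHom.comp_apply, hψ]
      simp [MonoidAlgebra.of_apply, ev]
    · refine MonoidAlgebra.algHom_ext' (R := k) (MonoidHom.ext fun a => ?_) (Subsingleton.elim _ _)
      simp only [MonoidHom.comp_apply, MonoidHom.coe_coe, AlgHom.comp_apply, hψ]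
      simp [MonoidAlgebra.of_apply, ev, ψ]
  refine ⟨v.inv ≫ pt ψ ≫ w.hom, n, inferInstance, hn, fun T t => ?_⟩
  obtain ⟨f, hf, hf1⟩ := exists_pow_eq (k := k) n
  have key : φ.comp ψ = f := by
    refine MonoidAlgebra.algHom_ext' (R := k) (MonoidHom.ext fun a => ?_) (Subsingleton.elim _ _)
    obtain ⟨a, rfl⟩ := Multiplicative.ofAdd.surjective a
    suffices h : (((φ.comp ψ : C →ₐ[k] C) : C →* C).comp (MonoidAlgebra.of k _)) =
        ((f : C →* C).comp (MonoidAlgebra.of k _)) from DFunLike.congr_fun h _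
    refine MonoidHom.ext_mint ?_
    show φ (ψ (MonoidAlgebra.of k _ (Multiplicative.ofAdd (1 : ℤ)))) = f (MonoidAlgebra.of k _ (Multiplicative.ofAdd (1 : ℤ)))
    rw [hψ, hf1, ← hgn]
    simp [ev]
  have hid : w.hom ≫ i ≫ v.inv ≫ pt ψ = (𝟙 (sp k C)) ^ n := by
    rw [← hf, ← key, pt_comp, ← hφ]
    simp only [Category.assoc]
  calc (t ≫ i) ≫ v.inv ≫ pt ψ ≫ w.hom = (t ≫ w.inv) ≫ (w.hom ≫ i ≫ v.inv ≫ pt ψ) ≫ w.hom := by simp
    _ = (t ≫ w.inv) ≫ ((𝟙 (sp k C)) ^ n) ≫ w.hom := by rw [hid]
    _ = t ^ n := by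
      rw [MonObj.pow_comp, MonObj.comp_pow, Category.id_comp, Category.assoc, Iso.inv_hom_id, Category.comp_id]

end CentralTorusLib
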